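import Cfsg.Agent.H488.CY.Perm

/-!
# S4829: rows from a decomposition of a permutation character (helper505)

`rowA_of_chars` : `MulAut S` acts on `X`, the inner automorphisms are transitive, `p ∣ |X|`, and the permutation character
of `S` is a sum of `m` rational valued characters whose Gram matrix `N` has `∑ N ≤ m`.
-/

set_option autoImplicit false

namespace Cfsg.Agent.H505.CY

open Cfsg Cfsg.Agent.H770.CY Cfsg.Agent.Characters Cfsg.Agent.Characters.Core
open MulAction

universe u v

/-- rational valued characters are `Cyc p` -/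
theorem cyc_of_rat {G : Type u} [Group G] [Finite G] (p : ℕ) {χ : G → ℂ} (hχ : IsCharacter G χ)
    (h : ∀ g, ∃ q : ℚ, χ g = q) : Cyc p χ := fun k hk _ g => (GaloisBasic.exists_rat_iff hχ g).1 (h g) k hk

theorem rowA_of_chars {p : ℕ} [hp : Fact p.Prime] {S : Type u} [Group S] [Fintype S] {X : Type v} [Finite X]
    [MulAction (MulAut S) X] (htr : ∀ x y : X, ∃ s : S, MulAut.conj s • x = y) (hne : Nonempty X)
    (hd : p ∣ Nat.card X) {m : ℕ}
    (h : ∃ (χ : Fin m → S → ℂ) (N : Fin m → Fin m → ℕ), (∀ s, IsCharacter S (χ s)) ∧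
      (∀ g : S, ∑ s, χ s g = Nat.card (fixedBy X (MulAut.conj g))) ∧ (∀ s g, ∃ q : ℚ, χ s g = q) ∧
      (∀ s t, classInner (χ s) (χ t) = N s t) ∧ (∀ s, 0 < N s s) ∧ ∑ s, ∑ t, N s t ≤ m) : RowA p S := by
  classical
  obtain ⟨χ, N, h1, h3, h4, h5, h6, h7⟩ := h
  have hN : ∀ s, N s s = 1 := by
    have h8 : ∑ s, N s s ≤ m := (Finset.sum_le_sum fun s _ =>
      Finset.single_le_sum (f := fun t => N s t) (fun _ _ => Nat.zero_le _) (Finset.mem_univ s)).trans h7
    have h9 : ∑ _s : Fin m, 1 = m := by simp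
    intro s
    by_contra hs
    have h10 : ∑ s : Fin m, 1 < ∑ s, N s s :=
      Finset.sum_lt_sum (fun t _ => h6 t) ⟨s, Finset.mem_univ s, by have := h6 s; omega⟩
    omega
  have hN0 : ∀ s t, s ≠ t → N s t = 0 := by
    intro s t hst
    by_contra h0
    have h9 : ∑ _s : Fin m, 1 = m := by simp
    have h10 : ∑ s : Fin m, 1 < ∑ s, ∑ t, N s t := by
      refine Finset.sum_lt_sum (fun a _ => ?_) ⟨s, Finset.mem_univ s, ?_⟩
      · rw [← hN a]
        exact Finset.single_le_sum (f := fun t => N a t) (fun _ _ => Nat.zero_le _) (Finset.mem_univ a)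
      · have h11 : ∑ b ∈ {s, t}, N s b ≤ ∑ b, N s b :=
          Finset.sum_le_sum_of_subset (Finset.subset_univ _)
        rw [Finset.sum_pair hst, hN] at h11
        omega
    omega
  have hirr : ∀ s, IsIrrCharacter S (χ s) := fun s =>
    isIrr_of_classInner_self (h1 s) (by rw [h5, hN, Nat.cast_one])
  have hone : IsIrrCharacter S (fun _ : S => (1 : ℂ)) := isIrr_one
  -- the trivial constituent
  let _ : MulAction S X := MulAction.compHom X (MulAut.conj : S →* MulAut S)
  have hpre : MulAction.IsPretransitive S X := ⟨fun x y => by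
    obtain ⟨s, hs⟩ := htr x y
    exact ⟨s, hs⟩⟩
  have h8 : classInner (∑ s, χ s) (fun _ : S => (1 : ℂ)) = 1 := by
    have h9 : (∑ s, χ s) = fun g : S => (Nat.card (fixedBy X g) : ℂ) := by
      funext g
      rw [Finset.sum_apply, h3 g]
      rfl
    have h10 := S0157.avg_fixedBy (G := S) X
    have h11 := S0157.card_orbits_of_pretransitive S X
    rw [h9, classInner_def]
    simp only [map_one, mul_one]
    rw [h10, h11, Nat.cast_one]
  obtain ⟨s0, hs0⟩ : ∃ s, χ s = fun _ => 1 := by
    by_contra hcon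
    push Not at hcon
    rw [classInner_sum_left, Finset.sum_eq_zero fun i _ => classInner_irr_ne (hirr i) hone (hcon i)] at h8
    exact zero_ne_one h8
  refine H488.CY.rowA_of_perm (X := X) htr hne hd (J := {s : Fin m // s ≠ s0})
    (fun j => ⟨χ j.1, hirr j.1⟩) ?_ ?_ ?_
  · intro i j hij
    have h9 : χ i.1 = χ j.1 := congrArg Subtype.val hij
    by_contra hne'
    have h10 : i.1 ≠ j.1 := fun h => hne' (Subtype.ext h)
    have h11 := h5 i.1 j.1
    rw [h9, classInner_irr_self (hirr j.1), hN0 _ _ h10, Nat.cast_zero] at h11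
    exact one_ne_zero h11
  · intro j
    refine ⟨fun h9 => ?_, cyc_of_rat p (h1 j.1) (h4 j.1)⟩
    have h9' : χ j.1 = fun _ => 1 := h9
    have h11 := h5 j.1 s0
    rw [h9', hs0, classInner_irr_self hone, hN0 _ _ j.2, Nat.cast_zero] at h11
    exact one_ne_zero h11
  · intro s
    rw [← h3 s, ← Finset.add_sum_erase Finset.univ _ (Finset.mem_univ s0), hs0]
    congr 1
    refine (Finset.sum_subtype _ (fun x => ?_) fun x => χ x s)
    rw [Finset.mem_erase]
    exact ⟨fun h => h.1, fun h => ⟨h, Finset.mem_univ _⟩⟩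

end Cfsg.Agent.H505.CY
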