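import Cfsg.Agent.H505.RatB.Tits
import Cfsg.Agent.H505.CY.Chars
import Cfsg.Agent.H776.CY.Congr
import Cfsg.Agent.TitsK.Model
import Cfsg.Agent.TitsK.Inst
import Cfsg.Agent.TitsK.SheetT

/-!
# S4829: the row of the Tits group, `p` odd (helper505)

`Ψ` = the permutation character on the 1755 central involutions (the points of the generalized octagon) minus one:
`351 + 650 + 675 + 78`, all rational; `1755 = 3 ^ 3 * 5 * 13`.

* `stab_eq` : the stabiliser of a point is the centraliser of the involution `tt = k0 ^ 4`;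
* `conj_of_aut` : automorphisms map `tt` to a conjugate (the center of a Sylow 2-subgroup has order 2);
* `rowA_T`, `rowA_tits`.
-/

set_option autoImplicit false
set_option maxRecDepth 100000
set_option exponentiation.threshold 5000

namespace Cfsg.Agent.H505.CY.Tits

open Cfsg Cfsg.Agent.H770.CY Cfsg.Agent.H505.RatB
open Cfsg.Agent.Lib.BitNet Cfsg.Agent.Lib.BitNetSimple Cfsg.Agent.H805.K4.Bit Cfsg.Agent.H805.K4.Tits
open Cfsg.Agent.SporadicB.RuData Cfsg.Agent.SporadicB.RuOrder Cfsg.Agent.SporadicB.RuTitsData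
open Cfsg.Agent.SporadicB.RuTits
open MulAction

universe u

/-! ### the central involution of the stabiliser -/

/-- the word of the involution -/
def wt : List ℕ := [1, 3, 1, 3, 1, 3, 1, 3]

/-- the two words commute on the base -/
noncomputable def cchk (a b : List ℕ) : Bool :=
  Nat.beq (appF (net a) (appF (net b) 0)) (appF (net b) (appF (net a) 0)) &&
  (Nat.beq (appF (net a) (appF (net b) 29)) (appF (net b) (appF (net a) 29)) &&
  (Nat.beq (appF (net a) (appF (net b) 580)) (appF (net b) (appF (net a) 580)) &&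
  Nat.beq (appF (net a) (appF (net b) 577)) (appF (net b) (appF (net a) 577))))

theorem comm_at {a b : List ℕ} {n : ℕ} (hn : n < 4060)
    (h : Nat.beq (appF (net a) (appF (net b) n)) (appF (net b) (appF (net a) n)) = true) :
    ((pw b * pw a)⁻¹ * (pw a * pw b)) (⟨n, hn⟩ : Fin 4060) = ⟨n, hn⟩ := by
  rw [Equiv.Perm.mul_apply, Equiv.Perm.inv_eq_iff_eq]
  apply Fin.ext
  rw [Equiv.Perm.mul_apply, Equiv.Perm.mul_apply, pw_apply, pw_apply, pw_apply, pw_apply]
  have h1 := Nat.eq_of_beq_eq_true h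
  rw [appF_eq, appF_eq, appF_eq, appF_eq] at h1
  exact h1

theorem comm_of {a b : List ℕ} (h : cchk a b = true) : pw a * pw b = pw b * pw a := by
  rw [cchk, Bool.and_eq_true, Bool.and_eq_true, Bool.and_eq_true] at h
  have h1 : (pw b * pw a)⁻¹ * (pw a * pw b) = 1 := by
    refine eq_one_of_fix ?_ (comm_at _ h.1) (comm_at _ h.2.1) (comm_at _ h.2.2.1) (comm_at _ h.2.2.2)
    exact (T_le (T.mul_mem (T.inv_mem (T.mul_mem (pw_mem b) (pw_mem a))) (T.mul_mem (pw_mem a) (pw_mem b)))).1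
  rw [inv_mul_eq_one] at h1
  exact h1.symm

theorem chk0 : cchk [1, 3] wt = true := by decide +kernel
theorem chk1 : cchk [0, 2] wt = true := by decide +kernel

theorem k0_eq : perm kmem0.1 = pw [1, 3] := by
  apply Equiv.ext
  intro x
  apply Fin.ext
  rw [pw_apply, perm_apply]
  have h1 : net [1, 3] = k0 ++ [] := by
    show gen 1 ++ (gen 3 ++ []) = (x0.reverse ++ x1.reverse) ++ []
    rw [List.append_assoc]
    rfl
  rw [h1, List.append_nil]

theorem k1_eq : perm kmem1.1 = pw [0, 2] := by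
  apply Equiv.ext
  intro x
  apply Fin.ext
  rw [pw_apply, perm_apply]
  have h1 : net [0, 2] = k1 ++ [] := by
    show gen 0 ++ (gen 2 ++ []) = (x0 ++ x1) ++ []
    rw [List.append_assoc]
    rfl
  rw [h1, List.append_nil]

/-- the involution -/
noncomputable def tt : T := ⟨pw wt, pw_mem wt⟩

theorem comm_of_stab {g : T} (hg : g • bp X = bp X) : g * tt = tt * g := by
  have h1 : g.1 ∈ H707.RowTitsModel.K := by
    rw [H707.RowTitsModel.K_eq]
    exact ⟨g.2, congrArg Subtype.val hg⟩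
  have h2 : H707.RowTitsModel.K ≤ Subgroup.centralizer ({pw wt} : Set (Equiv.Perm (Fin 4060))) := by
    rw [H707.RowTitsModel.K, Subgroup.closure_le]
    rintro g (rfl | rfl)
    · rw [SetLike.mem_coe, Subgroup.mem_centralizer_singleton_iff, k0_eq]
      exact comm_of chk0
    · rw [SetLike.mem_coe, Subgroup.mem_centralizer_singleton_iff, k1_eq]
      exact comm_of chk1
  have h3 := Subgroup.mem_centralizer_singleton_iff.1 (h2 h1)
  exact Subtype.ext h3

/-- a word which does not commute with the involution -/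
theorem ncomm {a : List ℕ} (h : Nat.beq (appF (net a) (appF (net wt) 1)) (appF (net wt) (appF (net a) 1)) = false) :
    pw a * pw wt ≠ pw wt * pw a := by
  intro h1
  have h2 := congrArg (fun g : Equiv.Perm (Fin 4060) => (g ⟨1, by norm_num⟩).val) h1
  simp only [Equiv.Perm.mul_apply, pw_apply] at h2
  rw [appF_eq, appF_eq, appF_eq, appF_eq] at h
  have h3 := Nat.ne_of_beq_eq_false h
  exact h3 h2

theorem nchk : ∀ i : Fin 5, i = 0 ∨
    Nat.beq (appF (net (wX i)) (appF (net wt) 1)) (appF (net wt) (appF (net (wX i)) 1)) = false := by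
  decide +kernel

theorem wX_pt : ∀ i : Fin 5, Nat.beq (appF (net (wX i)) 1968) (H707.RowTitsModel.ry i) = true := by decide +kernel

theorem stab_iff (g : T) : g • bp X = bp X ↔ g * tt = tt * g := by
  refine ⟨comm_of_stab, fun hg => ?_⟩
  obtain ⟨h, h1, h2⟩ := exists_orb X (g • bp X)
  set i := cls X (g • bp X) with hi
  have h3 := comm_of_stab h1
  -- the word of the representative
  let c : T := ⟨pw (wX i), pw_mem (wX i)⟩
  have hc : c • bp X = rp X i := by
    apply Subtype.ext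
    apply Fin.ext
    show ((pw (wX i) p1 : Fin 4060) : ℕ) = H707.RowTitsModel.ry i
    rw [pw_apply, ← appF_eq]
    exact Nat.eq_of_beq_eq_true (wX_pt i)
  have h4 : (c⁻¹ * (h⁻¹ * g)) • bp X = bp X := by
    rw [mul_smul, mul_smul, ← h2, inv_smul_smul, ← hc, inv_smul_smul]
  have h5 := comm_of_stab h4
  have h6 : c * tt = tt * c := by
    have e : c = h⁻¹ * g * (c⁻¹ * (h⁻¹ * g))⁻¹ := by group
    have e1 : Commute (h⁻¹ * g * (c⁻¹ * (h⁻¹ * g))⁻¹) tt := by
      have a1 : Commute h tt := h3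
      have a2 : Commute g tt := hg
      have a3 : Commute (c⁻¹ * (h⁻¹ * g)) tt := h5
      exact (a1.inv_left.mul_left a2).mul_left a3.inv_left
    rw [← e] at e1
    exact e1
  rcases nchk i with h7 | h7
  · have h8 : cls X (g • bp X) = X.c0 := h7
    exact eq_bp X h8
  · exact absurd (congrArg Subtype.val h6) (ncomm h7)

theorem stab_eq : stabilizer T (bp X) = Subgroup.centralizer ({tt} : Set T) := by
  ext g
  rw [mem_stabilizer_iff, Subgroup.mem_centralizer_singleton_iff, stab_iff]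

theorem tt_ne : tt ≠ 1 := by
  intro h
  have h1 : rp X 1 = bp X := by
    obtain ⟨g, hg⟩ := exists_bp X (rp X 1)
    rw [← hg, stab_iff, h, mul_one, one_mul]
  have h2 := cls_rp X 1
  rw [h1, cls_bp] at h2
  exact absurd h2 (by decide)

/-! ### automorphisms -/

instance : Fact (Nat.Prime 2) := ⟨Nat.prime_two⟩

/-- the center of a Sylow 2-subgroup has order two -/
theorem z1 (P : Sylow 2 T) (a b : T) (ha1 : a ≠ 1) (ha : ∀ s ∈ P, s * a = a * s) (hb1 : b ≠ 1)
    (hb : ∀ s ∈ P, s * b = b * s) : a = b := by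
  obtain ⟨e1⟩ := H707.RowTits.equiv
  obtain ⟨e2⟩ := Cfsg.Agent.TitsK.exists_equiv
  let f : T ≃* Cfsg.Agent.TitsK.TT := e1.symm.trans e2
  have hfin : Finite Cfsg.Agent.FourTwo.Base.LL := by infer_instance
  let Q : Sylow 2 Cfsg.Agent.TitsK.TT := P.mapSurjective (f := f.toMonoidHom) f.surjective
  have hQ : ∀ x ∈ Q, ∃ s ∈ P, f s = x := by
    intro x hx
    have h1 : x ∈ (P : Subgroup T).map f.toMonoidHom := hx
    obtain ⟨s, hs, h2⟩ := h1
    exact ⟨s, hs, h2⟩
  have key : ∀ a : T, a ≠ 1 → (∀ s ∈ P, s * a = a * s) → f a ≠ 1 ∧ ∀ x ∈ Q, x * f a = f a * x := by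
    intro a ha1 ha
    refine ⟨fun h => ha1 ((map_eq_one_iff f f.injective).1 h), fun x hx => ?_⟩
    obtain ⟨s, hs, rfl⟩ := hQ x hx
    rw [← map_mul, ha s hs, map_mul]
  obtain ⟨a1, a2⟩ := key a ha1 ha
  obtain ⟨b1, b2⟩ := key b hb1 hb
  exact f.injective (Cfsg.Agent.TitsK.TData.z1_field Cfsg.Agent.TitsK.tdata Q (f a) a1 a2 (f b) b1 b2)

theorem conj_of_aut (α : MulAut T) : ∃ s : T, α tt = s * tt * s⁻¹ := by
  obtain ⟨P⟩ : Nonempty (Sylow 2 T) := inferInstance
  have hP : IsPGroup 2 (P : Subgroup T) := P.2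
  obtain ⟨x, hx⟩ := hP.nonempty_fixed_point_of_prime_not_dvd_card (Pt X) (by rw [H505.RatB.Tits.card_Pt]; norm_num)
  obtain ⟨g, rfl⟩ := exists_bp X x
  have hu : ∀ s ∈ P, s * (g * tt * g⁻¹) = (g * tt * g⁻¹) * s := by
    intro s hs
    have h1 : s • g • bp X = g • bp X := hx ⟨s, hs⟩
    have h2 : (g⁻¹ * s * g) • bp X = bp X := by
      rw [mul_smul, mul_smul, h1, inv_smul_smul]
    have h3 := comm_of_stab h2
    have e1 : s * (g * tt * g⁻¹) = g * (g⁻¹ * s * g * tt) * g⁻¹ := by group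
    have e2 : (g * tt * g⁻¹) * s = g * (tt * (g⁻¹ * s * g)) * g⁻¹ := by group
    rw [e1, e2, h3]
  obtain ⟨h, hh⟩ := MulAction.exists_smul_eq T P (α • P)
  have hv : ∀ s ∈ P, s * (h⁻¹ * α (g * tt * g⁻¹) * h) = (h⁻¹ * α (g * tt * g⁻¹) * h) * s := by
    intro s hs
    have h1 : h * s * h⁻¹ ∈ ((h • P : Sylow 2 T) : Subgroup T) := by
      rw [Sylow.coe_subgroup_smul]
      exact Subgroup.smul_mem_pointwise_smul s (MulAut.conj h) _ hs
    rw [hh, Sylow.pointwise_smul_def] at h1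
    obtain ⟨s', hs', h2⟩ := h1
    have h2' : α s' = h * s * h⁻¹ := h2
    have h3 : (h * s * h⁻¹) * α (g * tt * g⁻¹) = α (g * tt * g⁻¹) * (h * s * h⁻¹) := by
      rw [← h2', ← map_mul, hu s' hs', map_mul]
    have e1 : s * (h⁻¹ * α (g * tt * g⁻¹) * h) = h⁻¹ * ((h * s * h⁻¹) * α (g * tt * g⁻¹)) * h := by group
    have e2 : (h⁻¹ * α (g * tt * g⁻¹) * h) * s = h⁻¹ * (α (g * tt * g⁻¹) * (h * s * h⁻¹)) * h := by group
    rw [e1, e2, h3]
  have hu1 : g * tt * g⁻¹ ≠ 1 := fun h1 => tt_ne (by rwa [conj_eq_one_iff] at h1)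
  have hv1 : h⁻¹ * α (g * tt * g⁻¹) * h ≠ 1 := by
    intro h1
    have h2 : h⁻¹ * α (g * tt * g⁻¹) * h⁻¹⁻¹ = 1 := by rwa [inv_inv]
    rw [conj_eq_one_iff, map_eq_one_iff α α.injective] at h2
    exact hu1 h2
  have h4 := z1 P _ _ hv1 hv hu1 hu
  refine ⟨(α g)⁻¹ * h * g, ?_⟩
  have h5 : α (g * tt * g⁻¹) = h * (g * tt * g⁻¹) * h⁻¹ := by
    have e3 : α (g * tt * g⁻¹) = h * (h⁻¹ * α (g * tt * g⁻¹) * h) * h⁻¹ := by group
    rw [h4] at e3
    exact e3
  rw [map_mul, map_mul, map_inv] at h5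
  have e : α tt = (α g)⁻¹ * (α g * α tt * (α g)⁻¹) * α g := by group
  rw [e, h5]
  group

/-! ### the action of the automorphism group on the central involutions -/

/-- the conjugates of the involution -/
def C : Type := {u : T // ∃ s : T, u = s * tt * s⁻¹}

instance : Finite C := inferInstanceAs (Finite {u : T // ∃ s : T, u = s * tt * s⁻¹})

theorem aut_mem (α : MulAut T) {u : T} (hu : ∃ s : T, u = s * tt * s⁻¹) : ∃ s : T, α u = s * tt * s⁻¹ := by
  obtain ⟨s, rfl⟩ := hu
  obtain ⟨r, hr⟩ := conj_of_aut α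
  refine ⟨α s * r, ?_⟩
  rw [map_mul, map_mul, map_inv, hr]
  group

instance : MulAction (MulAut T) C where
  smul α u := ⟨α u.1, aut_mem α u.2⟩
  one_smul _ := rfl
  mul_smul _ _ _ := rfl

theorem smul_C (α : MulAut T) (u : C) : (α • u).1 = α u.1 := rfl

/-- the base point -/
noncomputable def c0 : C := ⟨tt, 1, by group⟩

instance : Nonempty C := ⟨c0⟩

theorem transC (x y : C) : ∃ s : T, MulAut.conj s • x = y := by
  obtain ⟨a, ha⟩ := x.2
  obtain ⟨b, hb⟩ := y.2
  refine ⟨b * a⁻¹, Subtype.ext ?_⟩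
  rw [smul_C, MulAut.conj_apply, ha, hb]
  group

/-- the points are the central involutions -/
noncomputable def toC (x : Pt X) : C := ⟨(exists_bp X x).choose * tt * (exists_bp X x).choose⁻¹, _, rfl⟩

theorem toC_smul (g : T) : toC (g • bp X) = MulAut.conj g • c0 := by
  apply Subtype.ext
  rw [smul_C, MulAut.conj_apply]
  show (exists_bp X (g • bp X)).choose * tt * (exists_bp X (g • bp X)).choose⁻¹ = g * tt * g⁻¹
  have h1 := (exists_bp X (g • bp X)).choose_spec
  set h := (exists_bp X (g • bp X)).choose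
  have h2 : (g⁻¹ * h) • bp X = bp X := by rw [mul_smul, h1, inv_smul_smul]
  have h3 := comm_of_stab h2
  have e : h * tt * h⁻¹ = g * (g⁻¹ * h * tt) * h⁻¹ := by group
  rw [e, h3]
  group

theorem toC_inj : Function.Injective toC := by
  intro x y hxy
  obtain ⟨g, rfl⟩ := exists_bp X x
  obtain ⟨h, rfl⟩ := exists_bp X y
  rw [toC_smul, toC_smul] at hxy
  have h1 : g * tt * g⁻¹ = h * tt * h⁻¹ := congrArg Subtype.val hxy
  have h2 : (h⁻¹ * g) * tt = tt * (h⁻¹ * g) := by
    have e1 : (h⁻¹ * g) * tt = h⁻¹ * (g * tt * g⁻¹) * g := by group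
    rw [e1, h1]
    group
  rw [← stab_iff, mul_smul, inv_smul_eq_iff] at h2
  exact h2

theorem toC_surj : Function.Surjective toC := by
  intro y
  obtain ⟨b, hb⟩ := y.2
  refine ⟨b • bp X, ?_⟩
  rw [toC_smul]
  exact Subtype.ext hb.symm

theorem toC_equiv (g : T) (x : Pt X) : toC (g • x) = MulAut.conj g • toC x := by
  obtain ⟨h, rfl⟩ := exists_bp X x
  rw [toC_smul, ← mul_smul, toC_smul, map_mul, mul_smul]

theorem card_C : Nat.card C = 1755 := by
  rw [← H505.RatB.Tits.card_Pt]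
  exact (Nat.card_congr (Equiv.ofBijective toC ⟨toC_inj, toC_surj⟩)).symm

theorem card_fixed (g : T) : Nat.card (fixedBy C (MulAut.conj g)) = Nat.card (fixedBy (Pt X) g) := by
  refine (Nat.card_congr ((Equiv.ofBijective toC ⟨toC_inj, toC_surj⟩).subtypeEquiv fun x => ?_)).symm
  show g • x = x ↔ MulAut.conj g • toC x = toC x
  rw [← toC_equiv, toC_inj.eq_iff]

/-- **the row of the concrete group** -/
theorem rowA_T [Fintype T] {p : ℕ} [Fact p.Prime] (hp : p ∣ 1755) : RowA p T := by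
  obtain ⟨χ, N, h1, h2, h3⟩ := H505.RatB.Tits.chars
  exact rowA_of_chars (X := C) transC inferInstance (by rwa [card_C]) ⟨χ, N, h1, fun g => by rw [h2, card_fixed], h3⟩

/-- **the row of the Tits group**, `p` odd -/
theorem rowA_tits {p : ℕ} [hp : Fact p.Prime] (hp2 : p ≠ 2) {S : Type u} [Group S] [Fintype S] (hS : p ∣ Nat.card S)
    (h : Lie.IsoTits S) : RowA p S := by
  have hd : p ∣ 1755 := by
    rw [H707.RowTits.card_eq h, show 17971200 = 2 ^ 10 * (1755 * 10) by norm_num] at hS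
    rcases hp.out.dvd_mul.1 hS with h1 | h1
    · exact absurd ((Nat.prime_dvd_prime_iff_eq hp.out Nat.prime_two).1 (hp.out.dvd_of_dvd_pow h1)) hp2
    · rcases hp.out.dvd_mul.1 h1 with h1 | h1
      · exact h1
      · have h2 : p ∣ 2 * 5 := h1
        rcases hp.out.dvd_mul.1 h2 with h2 | h2
        · exact absurd ((Nat.prime_dvd_prime_iff_eq hp.out Nat.prime_two).1 h2) hp2
        · exact h2.trans (by norm_num)
  obtain ⟨e⟩ := h
  obtain ⟨f⟩ := H707.RowTits.equiv
  have := Fintype.ofFinite T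
  exact H776.CY.RowA.congr (e.trans f) (rowA_T hd)

/-- the row in the form of `RowsA` -/
theorem tits {p : ℕ} [hp : Fact p.Prime] (hp2 : p ≠ 2) : RowForA p (fun X _ => Lie.IsoTits X) :=
  fun _ _ _ _ _ hd h => rowA_tits hp2 hd h

end Cfsg.Agent.H505.CY.Tits
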